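import Mathlib

/-!
Witt vectors over rings spanned by roots of elements of the base (prime to `p`).
-/

noncomputable section

namespace Groth.Agent.WittCyc

open WittVector

universe u

variable {p : ℕ} [Fact p.Prime]

section basic

variable {R : Type u} [CommRing R] [CharP R p]

omit [CharP R p] in
theorem coeff_cons_zero (a : R) (y : WittVector p R) : (teichmuller p a + verschiebung y).coeff 0 = a := by
  rw [coeff_add_of_disjoint]
  · simp
  · intro i; rcases i with _ | i
    · right; simp
    · left; exact teichmuller_coeff_pos p a _ (Nat.succ_pos i)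

omit [CharP R p] in
theorem coeff_cons_succ (a : R) (y : WittVector p R) (i : ℕ) :
    (teichmuller p a + verschiebung y).coeff (i + 1) = y.coeff i := by
  rw [coeff_add_of_disjoint]
  · simp [teichmuller_coeff_pos p a _ (Nat.succ_pos i)]
  · intro j; rcases j with _ | j
    · right; simp
    · left; exact teichmuller_coeff_pos p a _ (Nat.succ_pos j)

omit [CharP R p] in
theorem eq_cons (x : WittVector p R) : teichmuller p (x.coeff 0) + verschiebung (x.shift 1) = x := by
  ext i; rcases i with _ | i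
  · rw [coeff_cons_zero]
  · rw [coeff_cons_succ, shift_coeff, add_comm]

theorem frobenius_teichmuller (a : R) :
    frobenius (teichmuller p a : WittVector p R) = teichmuller p (a ^ p) := by
  ext i; rcases i with _ | i
  · rw [coeff_frobenius_charP, teichmuller_coeff_zero, teichmuller_coeff_zero]
  · rw [coeff_frobenius_charP, teichmuller_coeff_pos p a _ (Nat.succ_pos i),
      teichmuller_coeff_pos p _ _ (Nat.succ_pos i), zero_pow (Fact.out : p.Prime).ne_zero]

theorem iterate_frobenius_teichmuller (a : R) (n : ℕ) :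
    (⇑(frobenius : WittVector p R →+* WittVector p R))^[n] (teichmuller p a) = teichmuller p (a ^ p ^ n) := by
  induction n with
  | zero => simp
  | succ n ih => rw [Function.iterate_succ_apply', ih, frobenius_teichmuller, ← pow_mul, ← pow_succ]

theorem coeff_teichmuller_mul (a : R) (x : WittVector p R) (i : ℕ) :
    (teichmuller p a * x).coeff i = a ^ p ^ i * x.coeff i := by
  induction i generalizing a x with
  | zero => simp [mul_coeff_zero]
  | succ i ih =>
    conv_lhs => rw [← eq_cons x]
    rw [mul_add, ← map_mul, mul_comm (teichmuller p a) (verschiebung _), ← verschiebung_mul_frobenius,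
      coeff_cons_succ, frobenius_teichmuller, mul_comm, ih, shift_coeff, ← pow_mul, ← pow_succ',
      add_comm 1 i]

omit [CharP R p] in
theorem coeff_sum_of_disjoint {ι : Type*} (s : Finset ι) (f : ι → WittVector p R) (e : ℕ → ι)
    (h : ∀ j ∈ s, ∀ i, j ≠ e i → (f j).coeff i = 0) (i : ℕ) :
    (∑ j ∈ s, f j).coeff i = ∑ j ∈ s, (f j).coeff i := by
  classical
  induction s using Finset.induction_on generalizing i with
  | empty => simp
  | insert b t hb ih =>
    have h' : ∀ j ∈ t, ∀ i, j ≠ e i → (f j).coeff i = 0 := fun j hj => h j (Finset.mem_insert_of_mem hj)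
    rw [Finset.sum_insert hb, Finset.sum_insert hb, coeff_add_of_disjoint, ih h' i]
    intro n
    by_cases hn : b = e n
    · right
      rw [ih h' n]
      exact Finset.sum_eq_zero fun j hj => h' j hj n (hn ▸ fun hje => hb (hje ▸ hj))
    · exact Or.inl (h b (Finset.mem_insert_self _ _) n hn)

omit [CharP R p] in
/-- A componentwise decomposition. -/
theorem exists_decomp {ι : Type*} [Fintype ι] (t : R → ι → R) (ht : ∀ b, ∑ j, t b j = b)
    (x : WittVector p R) :
    ∃ X : ι → WittVector p R, x = ∑ j, X j ∧ ∀ j i, ∃ b, (X j).coeff i = t b j := by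
  classical
  let r : ℕ → WittVector p R := fun n =>
    Nat.rec x (fun _ z => (z - ∑ j, teichmuller p (t (z.coeff 0) j)).shift 1) n
  let X : ι → WittVector p R := fun j => WittVector.mk p fun i => t ((r i).coeff 0) j
  refine ⟨X, ?_, fun j i => ⟨(r i).coeff 0, rfl⟩⟩
  let D : ℕ → WittVector p R := fun n => r n - ∑ j, (X j).shift n
  have hz : ∀ z : WittVector p R, verschiebung ((z - ∑ j, teichmuller p (t (z.coeff 0) j)).shift 1) =
      z - ∑ j, teichmuller p (t (z.coeff 0) j) := fun z => by
    conv_rhs => rw [← eq_cons (z - ∑ j, teichmuller p (t (z.coeff 0) j))]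
    have h0 : (z - ∑ j, teichmuller p (t (z.coeff 0) j)).coeff 0 = 0 := by
      change WittVector.constantCoeff (z - ∑ j, teichmuller p (t (z.coeff 0) j)) = 0
      rw [map_sub, map_sum]
      simp [WittVector.constantCoeff, ht]
    rw [h0, teichmuller_zero, zero_add]
  have hD : ∀ n, D n = verschiebung (D (n + 1)) := fun n => by
    have hs : ∀ j, (X j).shift n = teichmuller p (t ((r n).coeff 0) j) + verschiebung ((X j).shift (n + 1)) := by
      intro j
      ext i; rcases i with _ | i
      · rw [coeff_cons_zero, shift_coeff]; simp [X]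
      · rw [coeff_cons_succ, shift_coeff, shift_coeff, add_right_comm, add_assoc]
    simp only [D, map_sub, map_sum, hs, Finset.sum_add_distrib]
    rw [show r (n + 1) = (r n - ∑ j, teichmuller p (t ((r n).coeff 0) j)).shift 1 from rfl, hz]
    abel
  have hiter : ∀ m, D 0 = (⇑(verschiebung : WittVector p R →+ WittVector p R))^[m] (D m) := fun m => by
    induction m with
    | zero => rfl
    | succ m ih => rw [Function.iterate_succ_apply, ← hD, ← ih]
  have h0 : D 0 = 0 := by
    ext i
    rw [hiter (i + 1), iterate_verschiebung_coeff_eq_zero _ (Nat.lt_succ_self i), zero_coeff]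
  have hsh : ∀ j, (X j).shift 0 = X j := fun j => by ext i; rw [shift_coeff, zero_add]
  simpa [D, r, hsh, sub_eq_zero] using h0

end basic

section cyclic

theorem exists_exp (ℓ : ℕ) (hℓ : 0 < ℓ) (hpℓ : ¬ p ∣ ℓ) (i : ℕ) :
    ∃ u v : ℕ, u < 2 * ℓ ∧ 0 < u * p ^ i ∧ u * p ^ i = 1 + ℓ * v ∧ v ≤ 2 * p ^ i := by
  have : NeZero ℓ := ⟨hℓ.ne'⟩
  have hu : IsUnit ((p ^ i : ℕ) : ZMod ℓ) :=
    (ZMod.isUnit_iff_coprime _ _).2 (Nat.Coprime.pow_left i ((Fact.out : p.Prime).coprime_iff_not_dvd.2 hpℓ))
  obtain ⟨w, hw⟩ := hu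
  let u := ((w⁻¹ : (ZMod ℓ)ˣ) : ZMod ℓ).val + ℓ
  have hlt : u < 2 * ℓ := by
    have := ZMod.val_lt ((w⁻¹ : (ZMod ℓ)ˣ) : ZMod ℓ)
    omega
  have hp0 : 0 < p ^ i := Nat.pow_pos (Fact.out : p.Prime).pos
  have hpos : 0 < u * p ^ i := Nat.mul_pos (by omega) hp0
  have hdvd : ℓ ∣ u * p ^ i - 1 := by
    rw [← CharP.cast_eq_zero_iff (ZMod ℓ) ℓ]
    rw [Nat.cast_sub hpos, Nat.cast_mul, Nat.cast_add, ZMod.natCast_zmod_val, ZMod.natCast_self,
      add_zero, ← hw, Units.inv_mul, Nat.cast_one, sub_self]
  obtain ⟨v, hv⟩ := hdvd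
  refine ⟨u, v, hlt, hpos, by omega, ?_⟩
  by_contra hcon
  have h1 : ℓ * (2 * p ^ i + 1) ≤ ℓ * v := Nat.mul_le_mul_left ℓ (by omega)
  have h2 : u * p ^ i < 2 * ℓ * p ^ i := Nat.mul_lt_mul_of_pos_right hlt hp0
  have h3 : ℓ * (2 * p ^ i + 1) = 2 * ℓ * p ^ i + ℓ := by ring
  omega

variable {A B : Type u} [CommRing A] [CommRing B] [IsDomain A] [IsDomain B] [Algebra A B]
  [CharP A p] [CharP B p]

theorem exists_teichmuller_mul_mem (ℓ n : ℕ) (hℓ : 0 < ℓ) (hpℓ : ¬ p ∣ ℓ)
    (y : Finset B) (hspan : Submodule.span A (y : Set B) = ⊤)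
    (hpow : ∀ b ∈ y, b ^ ℓ ∈ Set.range (algebraMap A B)) (hinj : Function.Injective (algebraMap A B))
    (η : WittVector p B) :
    ∃ a : A, a ≠ 0 ∧ teichmuller p (algebraMap A B a) * (⇑(verschiebung : WittVector p B →+ WittVector p B))^[n] η ∈
      Ideal.span (Set.range (fun x : WittVector p A =>
        WittVector.map (algebraMap A B) ((⇑(verschiebung : WittVector p A →+ WittVector p A))^[n] x))) := by
  classical
  set I := Ideal.span (Set.range (fun x : WittVector p A =>
    WittVector.map (algebraMap A B) ((⇑(verschiebung : WittVector p A →+ WittVector p A))^[n] x)))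
  let f := algebraMap A B
  -- scalars
  have hA : ∀ j : y, ∃ a0 : A, a0 ≠ 0 ∧ ((j : B) = 0 ∨ (j : B) ^ ℓ = f a0) := fun j => by
    by_cases h : (j : B) = 0
    · exact ⟨1, one_ne_zero, Or.inl h⟩
    · obtain ⟨a0, ha0⟩ := hpow j j.2
      refine ⟨a0, fun h0 => h ?_, Or.inr ha0.symm⟩
      rw [h0, map_zero] at ha0
      exact pow_eq_zero_iff hℓ.ne' |>.1 ha0.symm
  choose a0 ha0 hrel using hA
  choose U V hU hUpos hUV hV using fun i => exists_exp (p := p) ℓ hℓ hpℓ i
  -- `y ^ (U i * p ^ i) = y * a0 ^ V i`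
  have key : ∀ (j : y) (i : ℕ), ((j : B) ^ U i) ^ p ^ i = (j : B) * f (a0 j ^ V i) := fun j i => by
    rw [← pow_mul]
    rcases hrel j with h | h
    · rw [h, zero_pow (hUpos i).ne', zero_mul]
    · rw [hUV, pow_add, pow_one, pow_mul, h, map_pow]
  -- the submodule of `x` with `V^n x ∈ I`
  let Good : WittVector p B → Prop := fun z =>
    (⇑(verschiebung : WittVector p B →+ WittVector p B))^[n] z ∈ I
  have hgood : ∀ (c : WittVector p A) (w : WittVector p B),
      Good (WittVector.map f c * (⇑(frobenius : WittVector p B →+* WittVector p B))^[n] w) := fun c w => by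
    have hm : ∀ m, WittVector.map f ((⇑(verschiebung : WittVector p A →+ WittVector p A))^[m] c) =
        (⇑(verschiebung : WittVector p B →+ WittVector p B))^[m] (WittVector.map f c) := fun m => by
      induction m with
      | zero => rfl
      | succ m ih =>
        rw [Function.iterate_succ_apply', map_verschiebung, ih]
        exact (Function.iterate_succ_apply' _ _ _).symm
    change _ ∈ I
    rw [← iterate_verschiebung_mul_left, ← hm]
    exact Ideal.mul_mem_right _ _ (Ideal.subset_span ⟨c, rfl⟩)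
  have hg0 : Good 0 := by
    change _ ∈ I
    rw [iterate_map_zero]
    exact zero_mem _
  have hga : ∀ a b, Good a → Good b → Good (a + b) := fun a b ha hb => by
    change _ ∈ I
    rw [iterate_map_add]
    exact add_mem ha hb
  -- the decomposition
  have hdec : ∀ b : B, ∃ g : y → A, ∑ j, g j • (j : B) = b := fun b => by
    obtain ⟨g, -, hg⟩ := Submodule.mem_span_finset.1 (hspan ▸ Submodule.mem_top : b ∈ Submodule.span A (y : Set B))
    exact ⟨fun j => g j, (Finset.sum_coe_sort y fun j => g j • j).trans hg⟩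
  choose g hg using hdec
  obtain ⟨Xc, hX, hXc⟩ := exists_decomp (fun b (j : y) => g b j • (j : B)) hg η
  choose bb hbb using hXc
  let cj : y → ℕ → WittVector p A := fun j u =>
    WittVector.mk p fun i => if u = U i then g (bb j i) j * a0 j ^ (2 * p ^ i - V i) else 0
  have hsplit : ∀ j : y, teichmuller p (f (a0 j ^ 2)) * Xc j =
      ∑ u ∈ Finset.range (2 * ℓ), WittVector.map f (cj j u) * teichmuller p ((j : B) ^ u) := fun j => by
    ext i
    rw [coeff_sum_of_disjoint _ _ U (fun u _ i hu => by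
        rw [mul_comm, coeff_teichmuller_mul]; simp [cj, hu]),
      Finset.sum_eq_single (U i) (fun u _ hu => by rw [mul_comm, coeff_teichmuller_mul]; simp [cj, hu])
        (fun h => absurd (Finset.mem_range.2 (hU i)) h)]
    rw [mul_comm (WittVector.map f _), coeff_teichmuller_mul, coeff_teichmuller_mul, hbb, key]
    simp only [cj, map_coeff, coeff_mk, if_pos]
    rw [Algebra.smul_def, ← map_pow f, map_mul f]
    have e : (a0 j ^ 2) ^ p ^ i = a0 j ^ V i * a0 j ^ (2 * p ^ i - V i) := by
      rw [← pow_mul, ← pow_add, Nat.add_sub_cancel' (hV i)]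
    rw [e, map_mul f]
    ring
  let T : A := ∏ j, (a0 j ^ 2 * a0 j ^ (V n * (2 * ℓ)))
  have hT : T ≠ 0 := Finset.prod_ne_zero_iff.2 fun j _ => mul_ne_zero (pow_ne_zero _ (ha0 j)) (pow_ne_zero _ (ha0 j))
  refine ⟨T, hT, ?_⟩
  rw [mul_comm, iterate_verschiebung_mul_left, iterate_frobenius_teichmuller, mul_comm]
  obtain ⟨q, hq⟩ : ∃ q, p ^ n = q + 1 := Nat.exists_eq_succ_of_ne_zero (Nat.pow_pos (Fact.out : p.Prime).pos).ne'
  rw [hq, pow_succ, map_mul, mul_assoc, hX, Finset.mul_sum, Finset.mul_sum]
  refine Finset.sum_induction _ Good hga hg0 fun j _ => ?_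
  obtain ⟨T', hT'⟩ : a0 j ^ 2 * a0 j ^ (V n * (2 * ℓ)) ∣ T := Finset.dvd_prod_of_mem (fun j : y => a0 j ^ 2 * a0 j ^ (V n * (2 * ℓ))) (Finset.mem_univ j)
  have e : teichmuller p (f T ^ q) * (teichmuller p (f T) * Xc j) =
      ∑ u ∈ Finset.range (2 * ℓ), teichmuller p (f (T ^ q * T')) * teichmuller p (f (a0 j ^ (V n * (2 * ℓ)))) *
        (WittVector.map f (cj j u) * teichmuller p ((j : B) ^ u)) := by
    rw [← Finset.mul_sum, ← hsplit]
    conv_lhs => arg 2; arg 1; rw [hT']
    simp only [map_mul, map_pow]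
    ring
  rw [e]
  change Good _
  have : ∀ u ∈ Finset.range (2 * ℓ), Good (teichmuller p (f (T ^ q * T')) * teichmuller p (f (a0 j ^ (V n * (2 * ℓ)))) *
      (WittVector.map f (cj j u) * teichmuller p ((j : B) ^ u))) := fun u hu => by
    have hu' : u ≤ 2 * ℓ := (Finset.mem_range.1 hu).le
    have e2 : teichmuller p (f (a0 j ^ (V n * (2 * ℓ)))) * teichmuller p ((j : B) ^ u) =
        WittVector.map f (teichmuller p (a0 j ^ (V n * (2 * ℓ - u)))) *
          (⇑(frobenius : WittVector p B →+* WittVector p B))^[n] (teichmuller p ((j : B) ^ (U n * u))) := by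
      rw [iterate_frobenius_teichmuller, map_teichmuller, ← map_mul, ← map_mul]
      congr 1
      have h3 : ((j : B) ^ (U n * u)) ^ p ^ n = (j : B) ^ u * f (a0 j ^ (V n * u)) := by
        rw [← pow_mul, mul_right_comm, pow_mul, pow_mul (j : B) (U n), key, mul_pow, ← map_pow, ← pow_mul]
      rw [h3, show V n * (2 * ℓ) = V n * (2 * ℓ - u) + V n * u by rw [← mul_add, Nat.sub_add_cancel hu'], pow_add, map_mul]
      ring
    rw [show teichmuller p (f (T ^ q * T')) * teichmuller p (f (a0 j ^ (V n * (2 * ℓ)))) *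
        (WittVector.map f (cj j u) * teichmuller p ((j : B) ^ u)) =
        WittVector.map f (teichmuller p (T ^ q * T') * cj j u) *
          (teichmuller p (f (a0 j ^ (V n * (2 * ℓ)))) * teichmuller p ((j : B) ^ u)) by
      rw [map_mul (WittVector.map f), map_teichmuller]; ring, e2, ← mul_assoc, ← map_mul]
    exact hgood _ _
  exact Finset.sum_induction _ Good hga hg0 this

end cyclic

end Groth.Agent.WittCyc
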